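import Groth.Agent.L06.NoEmbed.ProjOverlap
import Mathlib.AlgebraicGeometry.Morphisms.ClosedImmersion
import Mathlib.RingTheory.FiniteType

/-!
# Coordinates of a closed subscheme of projective space
-/

set_option autoImplicit false
set_option linter.style.haveILetI false
set_option backward.isDefEq.respectTransparency.types false

universe u

open CategoryTheory CategoryTheory.Limits AlgebraicGeometry

noncomputable section

namespace Groth.L06.NoEmbed

variable (k : Type u) [Field k] (X : Scheme.{u}) (s : X ⟶ Spec (CommRingCat.of k)) (n : ℕ)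

/-- An affine open cover with homogeneous coordinates. -/
structure Coords where
  R : Fin (n + 1) → Type u
  [ring : ∀ m, CommRing (R m)]
  [alg : ∀ m, Algebra k (R m)]
  ι : ∀ m, Spec (CommRingCat.of (R m)) ⟶ X
  [isOpen : ∀ m, IsOpenImmersion (ι m)]
  ι_s : ∀ m, ι m ≫ s = Spec.map (CommRingCat.ofHom (algebraMap k (R m)))
  cover : ∀ x : X, ∃ m, x ∈ Set.range (ι m)
  ξ : ∀ m, Fin (n + 1) → R m
  ξ_self : ∀ m, ξ m m = 1
  gen : ∀ m, Algebra.adjoin k (Set.range (ξ m)) = ⊤
  overlap : ∀ (S : Type u) [CommRing S] (i j : Fin (n + 1)) (α : R i →+* S) (β : R j →+* S),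
    Spec.map (CommRingCat.ofHom α) ≫ ι i = Spec.map (CommRingCat.ofHom β) ≫ ι j →
      ∀ l, β (ξ j l) = α (ξ i l) * β (ξ j i)

attribute [instance] Coords.ring Coords.alg Coords.isOpen

variable {k X s n}

open Groth.L16.ProjSpace (AwayX chartAway ratio awayEquiv ChartVar chart)

theorem ratio_self (m : Fin (n + 1)) : ratio n k m m = 1 := by
  refine HomogeneousLocalization.val_injective _ ?_
  rw [HomogeneousLocalization.val_one]
  exact (IsLocalization.Away.algebraMap_isUnit _).mul_right_cancel
    ((Groth.L16.ProjSpace.val_ratio_mul n k m m).trans (_root_.one_mul _).symm)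

/-- A closed immersion into projective space gives coordinates. -/
theorem nonempty_coords (f : X ⟶ CohB1.ProjSpace n k) [IsClosedImmersion f]
    (hf : f ≫ CohB1.ProjSpace.toSpec n k = s) : Nonempty (Coords k X s n) := by
  have key : ∀ m : Fin (n + 1), ∃ (I : Ideal (MvPolynomial (ChartVar n m) k))
      (ι : Spec (CommRingCat.of (MvPolynomial (ChartVar n m) k ⧸ I)) ⟶ X), IsOpenImmersion ι ∧
        ι ≫ f = Spec.map (CommRingCat.ofHom (Ideal.Quotient.mk I)) ≫ chart n k m ∧
        ∀ x, f x ∈ Set.range (chart n k m) → x ∈ Set.range ι := fun m => by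
    haveI : IsClosedImmersion (pullback.snd f (chart n k m)) :=
      MorphismProperty.pullback_snd (P := @IsClosedImmersion) _ _ inferInstance
    obtain ⟨I, e, he⟩ := (IsClosedImmersion.Spec_iff (R := CommRingCat.of (MvPolynomial (ChartVar n m) k))
      (f := pullback.snd f (chart n k m))).1 ‹_›
    refine ⟨I, e.inv ≫ pullback.fst f (chart n k m), inferInstance, ?_, fun x hx => ?_⟩
    · rw [Category.assoc, pullback.condition, he, ← Category.assoc, ← Category.assoc, Iso.inv_hom_id, Category.id_comp]
    · obtain ⟨y, hy⟩ : x ∈ Set.range (pullback.fst f (chart n k m)) := by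
        rw [Scheme.Pullback.range_fst]; exact hx
      exact ⟨e.hom y, by rw [← Scheme.Hom.comp_apply, Iso.hom_inv_id_assoc, hy]⟩
  choose I ι hι hιf hr using key
  haveI := hι
  refine ⟨{
    R := fun m => MvPolynomial (ChartVar n m) k ⧸ I m
    ι := ι
    ι_s := fun m => ?_
    cover := fun x => ?_
    ξ := fun m l => Ideal.Quotient.mk (I m) ((awayEquiv n k m).symm (ratio n k m l))
    ξ_self := fun m => by rw [ratio_self, map_one, map_one]
    gen := fun m => ?_
    overlap := fun S _ i j α β h l => ?_ }⟩
  · rw [← hf, reassoc_of% hιf m, Groth.L16.ProjSpace.chart_toSpec, ← Spec.map_comp]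
    rfl
  · obtain ⟨m, hm⟩ := Groth.L16.ProjSpace.exists_mem_basicOpen_X n k (f x)
    rw [← Groth.L16.ProjSpace.opensRange_chart] at hm
    exact ⟨m, hr m x hm⟩
  · rw [eq_top_iff]
    intro z _
    obtain ⟨p, rfl⟩ := Ideal.Quotient.mk_surjective z
    induction p using MvPolynomial.induction_on with
    | C c => exact Subalgebra.algebraMap_mem _ c
    | add p q hp hq => rw [map_add]; exact add_mem (hp trivial) (hq trivial)
    | mul_X p v hp =>
      rw [map_mul]
      refine mul_mem (hp trivial) (Algebra.subset_adjoin ⟨v.1, ?_⟩)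
      show Ideal.Quotient.mk (I m) ((awayEquiv n k m).symm (ratio n k m v.1)) = _
      congr 1
      rw [RingEquiv.symm_apply_eq]
      exact (Groth.L16.ProjSpace.toAway_X n k m v).symm
  · have h' : Spec.map (CommRingCat.ofHom ((α.comp (Ideal.Quotient.mk (I i))).comp (awayEquiv n k i).symm.toRingHom)) ≫
          chartAway n k i =
        Spec.map (CommRingCat.ofHom ((β.comp (Ideal.Quotient.mk (I j))).comp (awayEquiv n k j).symm.toRingHom)) ≫
          chartAway n k j := by
      have h1 := congrArg (· ≫ f) h
      simp only [Category.assoc, hιf] at h1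
      simp only [chart, ← Category.assoc, ← Spec.map_comp] at h1
      exact h1
    exact ratio_overlap _ _ h' l

end Groth.L06.NoEmbed
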