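import Groth.Agent.L06.NoEmbed.Thicken
import Mathlib.AlgebraicGeometry.ValuativeCriterion
import Mathlib.RingTheory.Valuation.LocalSubring
import Mathlib.RingTheory.Nakayama
import Mathlib.FieldTheory.IsAlgClosed.Basic
import Mathlib.RingTheory.Jacobson.Ring
import Mathlib.LinearAlgebra.Matrix.ToLin

/-!
# The map from the tangent developable of a proper group is quasi-finite away from the vertex
-/

set_option autoImplicit false
set_option linter.style.haveILetI false
set_option linter.unusedSectionVars false
set_option backward.isDefEq.respectTransparency.types false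

universe u

open CategoryTheory CategoryTheory.Limits MonoidalCategory CartesianMonoidalCategory MonObj AlgebraicGeometry Matrix
open Groth.L08.TorusQuot (SP spA)

noncomputable section

namespace Groth.L06.NoEmbed

variable {k : Type u} [Field k] {g n : ℕ}

/-- Contraction of the tangent vectors. -/
def contr (c : Fin g → k) : EN g k →ₐ[k] TrivSqZeroExt k k where
  toFun x := TrivSqZeroExt.inl x.fst + TrivSqZeroExt.inr (∑ i, c i * x.snd i)
  map_one' := by refine TrivSqZeroExt.ext (by simp) (by simp)
  map_zero' := by refine TrivSqZeroExt.ext (by simp) (by simp)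
  map_mul' x y := by
    refine TrivSqZeroExt.ext (by simp) ?_
    simp only [TrivSqZeroExt.snd_mul, TrivSqZeroExt.snd_add, TrivSqZeroExt.snd_inl, TrivSqZeroExt.snd_inr,
      TrivSqZeroExt.fst_add, TrivSqZeroExt.fst_inl, TrivSqZeroExt.fst_inr, Pi.add_apply, Pi.smul_apply,
      smul_eq_mul, MulOpposite.smul_eq_mul_unop, MulOpposite.unop_op, _root_.zero_add, _root_.add_zero,
      Finset.mul_sum, Finset.sum_mul, ← Finset.sum_add_distrib]
    exact Finset.sum_congr rfl fun i _ => by ring
  map_add' x y := by
    refine TrivSqZeroExt.ext (by simp) ?_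
    simp [mul_add, Finset.sum_add_distrib]
  commutes' r := by
    refine TrivSqZeroExt.ext (by simp [TrivSqZeroExt.algebraMap_eq_inl']) ?_
    simp [TrivSqZeroExt.algebraMap_eq_inl']

variable {X : Over (Spec (CommRingCat.of k))} [GrpObj X] (D : Coords k X.left X.hom n) (w : SP k (EN g k) ⟶ X)

/-- An infinitesimal point of rank `g` at the identity. -/
structure IsFrame : Prop where
  base : spA (π g k k) ≫ w = 1
  indep : ∀ c : Fin g → k, spA (contr c) ≫ w = 1 → c = 0

variable {D w} (hw : IsFrame w)

/-- the translated chart -/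
def tau (m : Fin (n + 1)) : D.R m →ₐ[k] EN g (D.R m) := (exists_tau D w hw.base m).choose

theorem π_tau (m : Fin (n + 1)) : (π g k (D.R m)).comp (tau hw m) = AlgHom.id k _ :=
  (exists_tau D w hw.base m).choose_spec.1

theorem fst_tau (m : Fin (n + 1)) (x : D.R m) : (tau (D := D) hw m x).fst = x :=
  DFunLike.congr_fun (π_tau hw m) x

theorem tau_spec (m : Fin (n + 1)) {S : Type u} [CommRing S] [Algebra k S] (φ : D.R m →ₐ[k] S) :
    pt D m ((tmap g φ).comp (tau hw m)) = shift w (pt D m φ) :=
  (exists_tau D w hw.base m).choose_spec.2 S φ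

/-- the matrix spanning the embedded tangent spaces -/
def mat (m : Fin (n + 1)) : Matrix (Fin (n + 1)) (Option (Fin g)) (D.R m) :=
  fun l j => j.elim (D.ξ m l) fun i => (tau hw m (D.ξ m l)).snd i

theorem injective_mat (m : Fin (n + 1)) (χ : D.R m →ₐ[k] k) (c : Option (Fin g) → k)
    (h : (mat (D := D) hw m).map χ *ᵥ c = 0) : c = 0 := by
  have hrow : ∀ l, χ (D.ξ m l) * c none + ∑ i, χ ((tau hw m (D.ξ m l)).snd i) * c (some i) = 0 := fun l => by
    have := congrFun h l
    simpa [Matrix.mulVec, dotProduct, Fintype.sum_option, mat] using this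
  have h0 : c none = 0 := by
    have := hrow m
    rw [D.ξ_self, map_one] at this
    simpa using this
  have hc : (fun i => c (some i)) = (0 : Fin g → k) := by
    refine hw.indep _ ?_
    let c' : Fin g → k := fun i => c (some i)
    have he : (contr c').comp ((tmap g χ).comp (tau hw m)) = (TrivSqZeroExt.inlAlgHom k k k).comp χ := by
      refine AlgHom.ext_of_adjoin_eq_top (D.gen m) ?_
      rintro _ ⟨l, rfl⟩
      refine TrivSqZeroExt.ext (by simp [contr, fst_tau]) ?_
      have := hrow l
      rw [h0, mul_zero, zero_add] at this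
      simp [contr, c', mul_comm (c _), this]
    have hp := congrArg (fun φ => pt D m φ) he

    rw [← pt_comp, tau_spec, ← pt_comp, shift, MonObj.comp_mul] at hp
    simp only [← Category.assoc, spA_comp] at hp
    have e1 : (contr c').comp (inlA g k k) = TrivSqZeroExt.inlAlgHom k k k :=
      AlgHom.ext fun r => TrivSqZeroExt.ext (by simp [contr]) (by simp [contr])
    have e2 : tmap g (Algebra.ofId k k) = AlgHom.id k (EN g k) :=
      AlgHom.ext fun r => TrivSqZeroExt.ext (by simp) (funext fun i => by simp)
    rw [e1, e2, AlgHom.comp_id] at hp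
    exact mul_left_cancel (hp.trans (_root_.mul_one _).symm)
  funext j
  cases j with
  | none => exact h0
  | some i => exact congrFun hc i

variable [IsAlgClosed k]

include hw in
theorem exists_leftInverse (m : Fin (n + 1)) :
    ∃ L : Matrix (Option (Fin g)) (Fin (n + 1)) (D.R m), L * mat (D := D) hw m = 1 := by
  classical
  let M := mat (D := D) hw m
  let N : Submodule (D.R m) (Option (Fin g) → D.R m) := LinearMap.range M.vecMulLinear
  haveI : Algebra.FiniteType k (D.R m) := ⟨⟨Finset.univ.image (D.ξ m), by rw [Finset.coe_image, Finset.coe_univ, Set.image_univ, D.gen]⟩⟩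
  suffices hN : N = ⊤ by
    have hv : ∀ j, ∃ v, v ᵥ* M = Pi.single j 1 := fun j => by
      have : Pi.single j 1 ∈ N := hN ▸ Submodule.mem_top
      exact this
    choose v hv using hv
    refine ⟨Matrix.of v, ?_⟩
    ext i j
    have := congrFun (hv i) j
    rw [Matrix.mul_apply, Matrix.one_apply]
    simpa [Matrix.vecMul, dotProduct, Pi.single_apply, eq_comm, M] using this
  by_contra hN
  obtain ⟨m', hm', hle⟩ : ∃ m' : Ideal (D.R m), m'.IsMaximal ∧
      (⊤ : Submodule (D.R m) ((Option (Fin g) → D.R m) ⧸ N)).annihilator ≤ m' := by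
    refine Ideal.exists_le_maximal _ fun htop => hN ?_
    rw [Submodule.annihilator_eq_top_iff] at htop
    rw [eq_top_iff]
    intro x _
    rw [← Submodule.Quotient.mk_eq_zero]
    exact (Submodule.mem_bot (D.R m)).1 (htop ▸ Submodule.mem_top)
  -- the point of the maximal ideal
  letI := Ideal.Quotient.field m'
  haveI : Algebra.FiniteType k (D.R m ⧸ m') := Algebra.FiniteType.of_surjective (Ideal.Quotient.mkₐ k m') Ideal.Quotient.mk_surjective
  haveI : Module.Finite k (D.R m ⧸ m') := finite_of_finite_type_of_isJacobsonRing k (D.R m ⧸ m')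
  let e : k ≃ₐ[k] (D.R m ⧸ m') := AlgEquiv.ofBijective (Algebra.ofId k _)
    (IsAlgClosed.algebraMap_bijective_of_isIntegral (k := k) (K := D.R m ⧸ m'))
  let χ : D.R m →ₐ[k] k := (e.symm : (D.R m ⧸ m') →ₐ[k] k).comp (Ideal.Quotient.mkₐ k m')
  have hχ : ∀ x, χ x = 0 → x ∈ m' := fun x hx => Ideal.Quotient.eq_zero_iff_mem.1 (e.symm.injective (hx.trans (map_zero _).symm))
  obtain ⟨l, hl⟩ := ((M.map χ).mulVecLin).exists_leftInverse_of_injective
    (LinearMap.ker_eq_bot'.2 fun c hc => injective_mat hw m χ c hc)
  let L0 := LinearMap.toMatrix' l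
  have hL0 : L0 * M.map χ = 1 := by
    have := congrArg LinearMap.toMatrix' hl
    rw [LinearMap.toMatrix'_comp, LinearMap.toMatrix'_id] at this
    rw [← this, ← Matrix.toLin'_apply', LinearMap.toMatrix'_toLin']
  have htop : (⊤ : Submodule (D.R m) ((Option (Fin g) → D.R m) ⧸ N)) ≤
      m' • (⊤ : Submodule (D.R m) ((Option (Fin g) → D.R m) ⧸ N)) := by
    intro q _
    obtain ⟨f, rfl⟩ := Submodule.Quotient.mk_surjective N q
    let v : Fin (n + 1) → D.R m := fun i => algebraMap k _ (((χ ∘ f) ᵥ* L0) i)
    have hd : ∀ j, (f - v ᵥ* M) j ∈ m' := fun j => hχ _ (by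
      have h1 : ((χ ∘ f) ᵥ* L0) ᵥ* M.map χ = χ ∘ f := by rw [Matrix.vecMul_vecMul, hL0, Matrix.vecMul_one]
      have h2 := congrFun h1 j
      simp only [Matrix.vecMul, dotProduct, Matrix.map_apply, Function.comp_apply] at h2
      simp only [Pi.sub_apply, map_sub, Matrix.vecMul, dotProduct, map_sum, map_mul, v, AlgHom.commutes,
        Algebra.algebraMap_self, RingHom.id_apply, Function.comp_apply]
      rw [h2, sub_self])
    have hdiff : f - v ᵥ* M = ∑ j, (f - v ᵥ* M) j • (Pi.single j (1 : D.R m)) :=
      pi_eq_sum_univ' _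
    have hmk : Submodule.Quotient.mk (p := N) f = Submodule.Quotient.mk (f - v ᵥ* M) :=
      (Submodule.Quotient.eq N).2 ⟨v, by simp⟩
    rw [hmk, hdiff, ← Submodule.mkQ_apply, map_sum]
    exact Submodule.sum_mem _ fun j _ => by
      rw [map_smul]
      exact Submodule.smul_mem_smul (hd j) Submodule.mem_top
  obtain ⟨r, hr1, hr2⟩ := Submodule.exists_sub_one_mem_and_smul_eq_zero_of_fg_of_le_smul m' ⊤ Module.Finite.fg_top htop
  exact hm'.ne_top (Ideal.eq_top_of_isUnit_mem _ (by simpa using sub_mem (hle (Submodule.mem_annihilator.2 fun x hx => hr2 x hx)) hr1) isUnit_one)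

end Groth.L06.NoEmbed
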