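import Groth.Agent.L06.NoEmbed.Core

/-!
# No positive dimensional family of embedded tangent spaces through a point
-/

set_option autoImplicit false
set_option linter.style.haveILetI false
set_option linter.unusedSectionVars false
set_option backward.isDefEq.respectTransparency.types false
set_option maxHeartbeats 1000000

universe u

open CategoryTheory CategoryTheory.Limits MonoidalCategory CartesianMonoidalCategory MonObj AlgebraicGeometry Matrix
open Groth.L08.TorusQuot (SP spA)

noncomputable section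

namespace Groth.L06.NoEmbed

variable {k : Type u} [Field k] [IsAlgClosed k] {g n : ℕ} {X : Over (Spec (CommRingCat.of k))} [GrpObj X]
  [IsProper X.hom] {D : Coords k X.left X.hom n} {w : SP k (EN g k) ⟶ X} (hw : IsFrame w)
  {K : Type u} [Field K] [Algebra k K]

include hw in
/-- Comparison of the coordinates of one tangent vector in two charts. -/
theorem change_chart (i m : Fin (n + 1)) (φ : D.R i →ₐ[k] K) (ψ : D.R m →ₐ[k] K) (h : pt D i φ = pt D m ψ)
    (p : Fin (n + 1) → K) (a : Option (Fin g) → K) (ha : (mat (D := D) hw i).map φ *ᵥ a = p) :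
    ψ (D.ξ m i) ≠ 0 ∧ (∀ l, ψ (D.ξ m l) = φ (D.ξ i l) * ψ (D.ξ m i)) ∧
      ∃ a' : Option (Fin g) → K, (∀ j, a' (some j) = a (some j) / ψ (D.ξ m i)) ∧
        (mat (D := D) hw m).map ψ *ᵥ a' = p := by
  have hover : ∀ l, ψ (D.ξ m l) = φ (D.ξ i l) * ψ (D.ξ m i) :=
    D.overlap K i m φ.toRingHom ψ.toRingHom (congrArg Over.Hom.left h)
  have hu : ψ (D.ξ m i) ≠ 0 := fun e => by
    have := hover m
    rw [D.ξ_self, map_one, e, mul_zero] at this
    exact one_ne_zero this
  refine ⟨hu, hover, ?_⟩
  have hshift : pt D i ((tmap g φ).comp (tau hw i)) = pt D m ((tmap g ψ).comp (tau hw m)) := by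
    rw [tau_spec, tau_spec, h]
  have hrow : ∀ l (j : Fin g), ψ ((tau hw m (D.ξ m l)).snd j) =
      φ (D.ξ i l) * ψ ((tau hw m (D.ξ m i)).snd j) + φ ((tau hw i (D.ξ i l)).snd j) * ψ (D.ξ m i) := fun l j => by
    have e := D.overlap (EN g K) i m ((tmap g φ).comp (tau hw i)).toRingHom ((tmap g ψ).comp (tau hw m)).toRingHom
      (congrArg Over.Hom.left hshift) l
    have e2 := congrFun (congrArg TrivSqZeroExt.snd e) j
    simpa [TrivSqZeroExt.snd_mul, fst_tau, mul_comm] using e2
  let u := ψ (D.ξ m i)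
  let u' : Fin g → K := fun j => ψ ((tau hw m (D.ξ m i)).snd j)
  let a' : Option (Fin g) → K := fun o =>
    o.elim ((a none - ∑ j, u' j * (a (some j) / u)) / u) fun j => a (some j) / u
  refine ⟨a', fun j => rfl, funext fun l => ?_⟩
  rw [← ha]
  simp only [Matrix.mulVec, dotProduct, Fintype.sum_option, Matrix.map_apply, mat, Option.elim, a']
  rw [hover l]
  have e1 : φ (D.ξ i l) * u * ((a none - ∑ j, u' j * (a (some j) / u)) / u) =
      φ (D.ξ i l) * a none - ∑ j, φ (D.ξ i l) * u' j * (a (some j) / u) := by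
    rw [_root_.mul_assoc, mul_div_cancel₀ _ hu, mul_sub, Finset.mul_sum]
    simp only [_root_.mul_assoc]
  rw [show ψ (D.ξ m i) = u from rfl, e1]
  have e3 : ∀ j : Fin g, ψ ((tau hw m (D.ξ m l)).snd j) * (a (some j) / u) =
      φ (D.ξ i l) * u' j * (a (some j) / u) + φ ((tau hw i (D.ξ i l)).snd j) * a (some j) := fun j => by
    rw [hrow, add_mul, _root_.mul_assoc (φ ((tau hw i (D.ξ i l)).snd j)), mul_div_cancel₀ _ hu]
  simp only [e3, Finset.sum_add_distrib]
  ring

include hw in
/-- Elements of the field regular at all centres. -/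
theorem regular (i : Fin (n + 1)) (φ : D.R i →ₐ[k] K) (p : Fin (n + 1) → k) (a : Option (Fin g) → K)
    (ha : (mat (D := D) hw i).map φ *ᵥ a = fun l => algebraMap k K (p l)) (j : Fin g) (l : Fin (n + 1)) :
    a (some j) * φ (D.ξ i l) ∈ (algebraMap k K).range := by
  let b := a (some j) * φ (D.ξ i l)
  suffices hb : ∀ V : ValuationSubring K, Set.range (algebraMap k K) ⊆ V.toSubring → b ∈ V.toSubring by
    have h1 : b ∈ ⨅ V : {V : ValuationSubring K // Set.range (algebraMap k K) ⊆ V.toSubring}, V.1.toSubring :=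
      Subring.mem_iInf.2 fun V => hb V.1 V.2
    rw [iInf_valuationSubring_superset] at h1
    let S := Subring.closure (Set.range (algebraMap k K))
    have hS : S = (algebraMap k K).range :=
      le_antisymm (Subring.closure_le.2 (by rw [RingHom.coe_range])) (by
        rintro _ ⟨c, rfl⟩; exact Subring.subset_closure ⟨c, rfl⟩)
    have hint : IsIntegral S b := h1
    obtain ⟨q, hq, hq0⟩ := hint
    obtain ⟨q', hq', -, hm'⟩ := Polynomial.lifts_and_natDegree_eq_and_monic
      (f := algebraMap k K) (p := q.map (algebraMap S K)) (by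
        rw [Polynomial.lifts_iff_coeff_lifts]
        intro c
        rw [Polynomial.coeff_map]
        exact hS.le (q.coeff c).2) (hq.map _)
    have hk : IsIntegral k b := ⟨q', hm', by
      rw [← Polynomial.eval_map, hq', Polynomial.eval_map]; exact hq0⟩
    haveI : Algebra.IsIntegral k (integralClosure k K) := integralClosure.AlgebraIsIntegral
    obtain ⟨c, hc⟩ := (IsAlgClosed.algebraMap_bijective_of_isIntegral (k := k) (K := integralClosure k K)).2 ⟨b, hk⟩
    exact ⟨c, congrArg Subtype.val hc⟩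
  intro V hV
  let θ : k →+* V := (algebraMap k K).codRestrict V.toSubring fun c => hV ⟨c, rfl⟩
  let S : ValuativeCommSq X.hom :=
    { R := V
      K := K
      i₁ := (pt D i φ).left
      i₂ := Spec.map (CommRingCat.ofHom θ)
      commSq := ⟨(Over.w (pt D i φ)).trans
        (Spec.map_comp (CommRingCat.ofHom θ) (CommRingCat.ofHom (algebraMap V K)))⟩ }
  have hex : ValuativeCriterion.Existence X.hom := by
    have h := ‹IsProper X.hom›
    rw [IsProper.eq_valuativeCriterion] at h
    exact h.1.1.1.existence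
  obtain ⟨⟨⟨ℓ, hℓ1, hℓ2⟩⟩⟩ := hex S
  obtain ⟨m, hm⟩ := D.cover (ℓ (IsLocalRing.closedPoint V))
  letI : Algebra k V := θ.toAlgebra
  let z : SP k V ⟶ X := Over.homMk ℓ hℓ2
  obtain ⟨ψ₀, hψ₀⟩ := exists_pt D m z (by
    rintro _ ⟨y, rfl⟩
    exact ((IsLocalRing.specializes_closedPoint y).map ℓ.continuous).mem_open (D.ι m).isOpenEmbedding.isOpen_range hm)
  let inc : V →ₐ[k] K := { V.toSubring.subtype with commutes' := fun c => rfl }
  let ψ := inc.comp ψ₀
  have hpt : pt D i φ = pt D m ψ := by
    rw [← pt_comp, hψ₀]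
    exact Over.OverMorphism.ext hℓ1.symm
  obtain ⟨hu, hover, a', ha's, ha'⟩ := change_chart hw i m φ ψ hpt _ a ha
  obtain ⟨L, hL⟩ := exists_leftInverse (D := D) hw m
  have hL' : L.map ψ * (mat (D := D) hw m).map ψ = 1 := by
    rw [← Matrix.map_mul, hL, Matrix.map_one _ (map_zero ψ) (map_one ψ)]
  have hsol : a' = L.map ψ *ᵥ fun l => algebraMap k K (p l) := by
    rw [← ha', Matrix.mulVec_mulVec, hL', Matrix.one_mulVec]
  have h1 : a' (some j) ∈ V.toSubring := by
    rw [hsol]
    show ∑ l : Fin (n + 1), inc (ψ₀ (L (some j) l)) * algebraMap k K (p l) ∈ V.toSubring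
    exact Subring.sum_mem _ fun l _ => Subring.mul_mem _ (ψ₀ (L (some j) l)).2 (hV ⟨p l, rfl⟩)
  have h2 : ψ (D.ξ m l) ∈ V.toSubring := (ψ₀ (D.ξ m l)).2
  have h3 : b = a' (some j) * ψ (D.ξ m l) := by
    rw [ha's, hover l, mul_comm (φ (D.ξ i l)) (ψ (D.ξ m i)), ← _root_.mul_assoc, div_mul_cancel₀ _ hu]
  rw [h3]
  exact Subring.mul_mem _ h1 h2

include hw in
/-- A point lies on the tangent spaces at finitely many points only. -/
theorem isMaximal_of_fibre (i : Fin (n + 1)) (P : Ideal (D.R i)) [P.IsPrime] (p : Fin (n + 1) → k) (hp : p ≠ 0)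
    (a : Option (Fin g) → D.R i ⧸ P)
    (ha : (mat (D := D) hw i).map (Ideal.Quotient.mk P) *ᵥ a = fun l => algebraMap k (D.R i ⧸ P) (p l)) :
    P.IsMaximal := by
  let K := FractionRing (D.R i ⧸ P)
  let inj : D.R i ⧸ P →ₐ[k] K := IsScalarTower.toAlgHom k (D.R i ⧸ P) K
  let φ : D.R i →ₐ[k] K := inj.comp (Ideal.Quotient.mkₐ k P)
  let a' : Option (Fin g) → K := fun o => inj (a o)
  have ha' : (mat (D := D) hw i).map φ *ᵥ a' = fun l => algebraMap k K (p l) := funext fun l => by
    have := congrArg inj (congrFun ha l)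
    rw [AlgHom.commutes] at this
    simpa [Matrix.mulVec, dotProduct, φ, a'] using this
  have hξ : ∀ l, φ (D.ξ i l) ∈ (algebraMap k K).range := by
    intro l
    by_cases h : ∀ j, a' (some j) = 0
    · have hl : ∀ l, φ (D.ξ i l) * a' none = algebraMap k K (p l) := fun l => by
        have := congrFun ha' l
        simpa [Matrix.mulVec, dotProduct, Fintype.sum_option, mat, h] using this
      have h0 := hl i
      rw [D.ξ_self, map_one, _root_.one_mul] at h0
      have hp0 : p i ≠ 0 := fun e => hp (funext fun l => by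
        have := hl l
        rw [h0, e, map_zero, mul_zero] at this
        exact (map_eq_zero _).1 this.symm)
      refine ⟨p l / p i, ?_⟩
      rw [map_div₀, ← hl l, h0, mul_div_assoc, div_self ((map_ne_zero _).2 hp0), _root_.mul_one]
    · push Not at h
      obtain ⟨j, hj⟩ := h
      obtain ⟨c, hc⟩ := regular hw i φ p a' ha' j l
      obtain ⟨d, hd⟩ := regular hw i φ p a' ha' j i
      rw [D.ξ_self, map_one, _root_.mul_one] at hd
      exact ⟨c / d, by rw [map_div₀, hc, hd, mul_div_cancel_left₀ _ hj]⟩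
  have hall : ∀ x, φ x ∈ (Algebra.ofId k K).range := fun x => by
    have h1 : (Algebra.adjoin k (Set.range (D.ξ i))).map φ ≤ (Algebra.ofId k K).range := by
      rw [AlgHom.map_adjoin, Algebra.adjoin_le_iff]
      rintro _ ⟨_, ⟨l, rfl⟩, rfl⟩
      exact hξ l
    rw [D.gen] at h1
    exact h1 ⟨x, Algebra.mem_top, rfl⟩
  have hsurj : Function.Surjective (algebraMap k (D.R i ⧸ P)) := fun y => by
    obtain ⟨x, rfl⟩ := Ideal.Quotient.mk_surjective y
    obtain ⟨c, hc⟩ := hall x
    exact ⟨c, IsFractionRing.injective (D.R i ⧸ P) K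
      ((IsScalarTower.algebraMap_apply k (D.R i ⧸ P) K c).symm.trans hc)⟩
  exact Ideal.Quotient.maximal_of_isField P
    ((RingEquiv.ofBijective (algebraMap k (D.R i ⧸ P)) ⟨(algebraMap k (D.R i ⧸ P)).injective, hsurj⟩).symm.toMulEquiv.isField
      (Field.toIsField k))

end Groth.L06.NoEmbed
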