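import Groth.Agent.L06.NoEmbed.Fibre
import Groth.Agent.L22.SchemeDim
import Mathlib.RingTheory.Ideal.Cotangent
import Mathlib.RingTheory.Ideal.KrullsHeightTheorem

/-!
# Independent tangent vectors at the identity of a group variety
-/

set_option autoImplicit false
set_option linter.style.haveILetI false
set_option linter.unusedSectionVars false
set_option backward.isDefEq.respectTransparency.types false
set_option maxHeartbeats 1000000

universe u

open CategoryTheory CategoryTheory.Limits MonoidalCategory CartesianMonoidalCategory MonObj AlgebraicGeometry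
open Groth.L08.TorusQuot (SP spA)

noncomputable section

namespace Groth.L06.NoEmbed

variable {k : Type u} [Field k] {X : Over (Spec (CommRingCat.of k))} [GrpObj X]

attribute [local instance] Curv2.resAlgebra in
/-- the local ring at a closed point of a variety has the dimension of the variety -/
theorem stalk_closed_dim (k : Type u) [Field k] {Z : Scheme.{u}} [Z.Over (Spec (CommRingCat.of k))]
    [LocallyOfFiniteType (Z ↘ Spec (CommRingCat.of k))] [IsIntegral Z] {n : ℕ}
    (hdim : topologicalKrullDim Z = (n : WithBot ℕ∞)) {x : Z} (hx : IsClosed ({x} : Set Z)) :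
    ringKrullDim (Z.presheaf.stalk x) = (n : WithBot ℕ∞) := by
  obtain ⟨a, c, ha, hc, hac⟩ := Groth.L22.SchemeDim.exists_localDim k Z x
  obtain ⟨a', ha', htr⟩ := Groth.L22.SchemeDim.exists_dim_closure_eq_trdeg k Z x
  obtain ⟨m, hm, -, hopen⟩ := Groth.L22.SchemeDim.exists_dim_eq_trdeg k Z
  have hm2 : n = m := by exact_mod_cast hdim.symm.trans hm
  have hl : FlatMor.localDim Z x = (n : WithBot ℕ∞) := by
    refine le_antisymm ?_ (le_iInf fun U => ?_)
    · refine iInf_le_of_le ⟨⊤, trivial⟩ ?_
      rw [hm2, ← hopen ⊤ ⟨x, trivial⟩]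
      exact le_rfl
    · rw [hm2, ← hopen U.1 ⟨x, U.2⟩]
      exact le_rfl
  rw [hx.closure_eq] at ha'
  have ha0 : a' = 0 := by
    have hle : topologicalKrullDim ({x} : Set Z) ≤ 0 := topologicalKrullDim_zero_of_discreteTopology _
    rw [ha'] at hle
    have : (a' : WithBot ℕ∞) ≤ ((0 : ℕ) : WithBot ℕ∞) := by simpa using hle
    have : a' ≤ 0 := by exact_mod_cast this
    omega
  have haa : a = a' := by exact_mod_cast ha.symm.trans htr
  rw [hl] at hac
  have : n = a + c := by exact_mod_cast hac
  rw [hc, show c = n by omega]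

theorem exists_frame [IsProper X.hom] [IsIntegral X.left] {g : ℕ} (hg : topologicalKrullDim X.left = g) :
    ∃ w : SP k (EN g k) ⟶ X, IsFrame w := by
  classical
  let e : SP k k ⟶ X := 1
  let x := e.left (IsLocalRing.closedPoint k)
  let A := X.left.presheaf.stalk x
  let j : Spec A ⟶ X.left := X.left.fromSpecStalk x
  obtain ⟨θ, hθ⟩ := Spec.map_surjective (j ≫ X.hom)
  letI : Algebra k A := θ.hom.toAlgebra
  let ε₀ : A ⟶ CommRingCat.of k := Scheme.stalkClosedPointTo e.left
  have hε₀ : Spec.map ε₀ ≫ j = e.left := Scheme.Spec_stalkClosedPointTo_fromSpecStalk _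
  have hid : θ ≫ ε₀ = CommRingCat.ofHom (algebraMap k k) := by
    apply Spec.map_injective
    rw [Spec.map_comp, hθ, ← Category.assoc, hε₀]
    exact Over.w e
  let ε : A →ₐ[k] k := { ε₀.hom with commutes' := fun c => congr($hid c) }
  have hker : RingHom.ker ε = IsLocalRing.maximalIdeal A :=
    IsLocalRing.eq_maximalIdeal (RingHom.ker_isMaximal_of_surjective ε fun c => ⟨algebraMap k A c, ε.commutes c⟩)
  have hmem : ∀ a : A, a - algebraMap k A (ε a) ∈ IsLocalRing.maximalIdeal A := fun a => by
    rw [← hker, RingHom.mem_ker, map_sub, AlgHom.commutes]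
    exact sub_self _
  haveI : IsLocalHom ε.toRingHom := ⟨fun a ha => by_contra fun hna => by
    have : a ∈ RingHom.ker ε := hker ▸ (IsLocalRing.mem_maximalIdeal a).2 hna
    rw [RingHom.mem_ker] at this
    exact ha.ne_zero this⟩
  let er : IsLocalRing.ResidueField A →+* k := IsLocalRing.ResidueField.lift ε.toRingHom
  -- the dimension of the cotangent space
  letI : X.left.Over (Spec (CommRingCat.of k)) := ⟨X.hom⟩
  haveI : LocallyOfFiniteType (X.left ↘ Spec (CommRingCat.of k)) := inferInstanceAs (LocallyOfFiniteType X.hom)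
  have hclosed : IsClosed ({x} : Set X.left) := by
    haveI : IsClosedImmersion (e.left ≫ X.hom) := by
      rw [Over.w e]
      exact IsClosedImmersion.spec_of_surjective _ fun c => ⟨c, rfl⟩
    haveI : IsClosedImmersion e.left := IsClosedImmersion.of_comp e.left X.hom
    have hr : Set.range e.left = {x} := by
      refine Set.Subset.antisymm ?_ (Set.singleton_subset_iff.2 ⟨_, rfl⟩)
      rintro _ ⟨q, rfl⟩
      exact congrArg e.left (Subsingleton.elim (α := PrimeSpectrum k) q _)
    exact hr ▸ e.left.isClosedEmbedding.isClosed_range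
  haveI : IsLocallyNoetherian X.left := LocallyOfFiniteType.isLocallyNoetherian X.hom
  haveI : IsNoetherianRing A := inferInstanceAs (IsNoetherianRing (X.left.presheaf.stalk x))
  have hdim : ringKrullDim A = (g : WithBot ℕ∞) := stalk_closed_dim k hg hclosed
  let d := Module.finrank (IsLocalRing.ResidueField A) (IsLocalRing.CotangentSpace A)
  have hd : g ≤ d := by
    have h := ringKrullDim_le_spanFinrank_maximalIdeal (R := A)
    rw [hdim, IsLocalRing.spanFinrank_maximalIdeal_eq_finrank_cotangentSpace] at h
    exact_mod_cast h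
  let b := Module.finBasis (IsLocalRing.ResidueField A) (IsLocalRing.CotangentSpace A)
  let cl : A → IsLocalRing.CotangentSpace A := fun a => (IsLocalRing.maximalIdeal A).toCotangent ⟨_, hmem a⟩
  let coord : Fin g → IsLocalRing.CotangentSpace A → k := fun i v => er (b.repr v (Fin.castLE hd i))
  have coord_add : ∀ i v v', coord i (v + v') = coord i v + coord i v' := fun i v v' => by simp [coord]
  have coord_smul : ∀ i (a : A) v, coord i (a • v) = ε a * coord i v := fun i a v => by
    simp only [coord]
    rw [← algebraMap_smul (IsLocalRing.ResidueField A) a v, map_smul, Finsupp.smul_apply, smul_eq_mul, map_mul]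
    congr 1
  have cl_add : ∀ a a', cl (a + a') = cl a + cl a' := fun a a' => by
    simp only [cl, ← map_add]
    congr 1
    exact Subtype.ext (by simp [map_add]; ring)
  have cl_zero : ∀ c : k, cl (algebraMap k A c) = 0 := fun c => by
    simp only [cl]
    rw [← map_zero (IsLocalRing.maximalIdeal A).toCotangent]
    congr 1
    exact Subtype.ext (by simp)
  have cl_mul : ∀ a a', cl (a * a') = algebraMap k A (ε a) • cl a' + algebraMap k A (ε a') • cl a := fun a a' => by
    simp only [cl, ← map_smul, ← map_add]
    rw [Ideal.toCotangent_eq, pow_two]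
    have h := Ideal.mul_mem_mul (hmem a) (hmem a')
    convert h using 1
    simp [map_mul, Algebra.smul_def]
    ring
  let δ : A →ₐ[k] EN g k :=
    { toFun := fun a => TrivSqZeroExt.inl (ε a) + TrivSqZeroExt.inr fun i => coord i (cl a)
      map_one' := by
        refine TrivSqZeroExt.ext (by simp) (funext fun i => ?_)
        have := cl_zero 1
        rw [map_one] at this
        simp [this, coord]
      map_mul' := fun a a' => by
        refine TrivSqZeroExt.ext (by simp) (funext fun i => ?_)
        simp only [TrivSqZeroExt.snd_add, TrivSqZeroExt.snd_inl, TrivSqZeroExt.snd_inr, _root_.zero_add,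
          Pi.add_apply, Pi.smul_apply, TrivSqZeroExt.snd_mul, TrivSqZeroExt.fst_add, TrivSqZeroExt.fst_inl,
          TrivSqZeroExt.fst_inr, _root_.add_zero, smul_eq_mul, MulOpposite.smul_eq_mul_unop, MulOpposite.unop_op]
        rw [cl_mul, coord_add, coord_smul, coord_smul, AlgHom.commutes, AlgHom.commutes, Algebra.algebraMap_self,
          RingHom.id_apply, RingHom.id_apply, _root_.mul_comm (ε a') (coord i (cl a)), Pi.zero_apply, _root_.zero_add]
      map_zero' := by
        refine TrivSqZeroExt.ext (by simp) (funext fun i => ?_)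
        have := cl_zero 0
        rw [map_zero] at this
        simp [this, coord]
      map_add' := fun a a' => by
        refine TrivSqZeroExt.ext (by simp) (funext fun i => ?_)
        simp [cl_add, coord_add]
      commutes' := fun c => by
        refine TrivSqZeroExt.ext (by simp [TrivSqZeroExt.algebraMap_eq_inl']) (funext fun i => ?_)
        simp [cl_zero, coord, TrivSqZeroExt.algebraMap_eq_inl'] }
  let w : SP k (EN g k) ⟶ X := Over.homMk (Spec.map (CommRingCat.ofHom δ.toRingHom) ≫ j) (by
    rw [Category.assoc, ← hθ]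
    exact (Spec.map_comp θ (CommRingCat.ofHom δ.toRingHom)).symm.trans
      (congrArg Spec.map (CommRingCat.hom_ext (RingHom.ext δ.commutes))))
  have hδε : (π g k k).comp δ = ε := AlgHom.ext fun a => by simp [δ]
  have hsp : ∀ {T : Type u} [CommRing T] [Algebra k T] (φ : EN g k →ₐ[k] T),
      (spA φ ≫ w).left = Spec.map (CommRingCat.ofHom (φ.comp δ).toRingHom) ≫ j := fun {T} _ _ φ => by
    show Spec.map (CommRingCat.ofHom φ.toRingHom) ≫ Spec.map (CommRingCat.ofHom δ.toRingHom) ≫ j = _
    rw [← Category.assoc, ← Spec.map_comp]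
    rfl
  refine ⟨w, Over.OverMorphism.ext ?_, fun c hc => ?_⟩
  · rw [hsp, hδε]
    exact hε₀
  have hc' := congrArg Over.Hom.left hc
  rw [hsp, ← MonObj.comp_one (M := X) (spA (Algebra.ofId k (TrivSqZeroExt k k)))] at hc'
  change _ = Spec.map (CommRingCat.ofHom (Algebra.ofId k (TrivSqZeroExt k k)).toRingHom) ≫ e.left at hc'
  rw [← hε₀, ← Category.assoc, ← Spec.map_comp] at hc'
  have heq := congrArg CommRingCat.Hom.hom (Spec.map_injective ((cancel_mono j).1 hc'))
  funext i
  obtain ⟨⟨a, ha⟩, hab⟩ := Ideal.toCotangent_surjective _ (b (Fin.castLE hd i))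
  have hεa : ε a = 0 := RingHom.mem_ker.1 (hker ▸ ha)
  have hcl : cl a = b (Fin.castLE hd i) := by
    rw [← hab]
    simp only [cl]
    congr 1
    exact Subtype.ext (by simp [hεa])
  have h := congrArg TrivSqZeroExt.snd (RingHom.congr_fun heq a)
  have hcoord : ∀ j, coord j (cl a) = if j = i then 1 else 0 := fun j => by
    simp only [coord, hcl, Module.Basis.repr_self, Finsupp.single_apply, (Fin.castLE_injective hd).eq_iff]
    by_cases hji : j = i
    · simp [hji]
    · simp [hji, Ne.symm hji]
  simpa [contr, δ, hcoord, TrivSqZeroExt.algebraMap_eq_inl', Algebra.ofId_apply] using h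

end Groth.L06.NoEmbed
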