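import Groth.Agent.L06.NoEmbed.Frame
import Groth.Agent.L16.ProjSpace.BaseChange
import Groth.Agent.L22.AffineDim
import Groth.Agent.L21.CurvFib.DimExt
import Mathlib.FieldTheory.IsAlgClosed.AlgebraicClosure
import Mathlib.RingTheory.KrullDimension.Polynomial

/-!
# An abelian variety of dimension `g` does not embed in projective space of dimension below `2g`
-/

set_option autoImplicit false
set_option linter.style.haveILetI false
set_option linter.unusedSectionVars false
set_option backward.isDefEq.respectTransparency.types false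
set_option maxHeartbeats 1000000

universe u

open CategoryTheory CategoryTheory.Limits MonoidalCategory CartesianMonoidalCategory MonObj AlgebraicGeometry Matrix
open Groth.L08.TorusQuot (SP spA)

noncomputable section

namespace Groth.L06.NoEmbed

variable {k : Type u} [Field k]

/-- the dimension of a nonempty affine chart -/
theorem ringKrullDim_chart {Z : Scheme.{u}} [Z.Over (Spec (CommRingCat.of k))]
    [LocallyOfFiniteType (Z ↘ Spec (CommRingCat.of k))] [IrreducibleSpace Z] {g : ℕ}
    (hg : topologicalKrullDim Z = g) {R : Type u} [CommRing R] [Nontrivial R]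
    (jr : Spec (CommRingCat.of R) ⟶ Z) [IsOpenImmersion jr] : ringKrullDim R = g := by
  obtain ⟨m, hm, -, hopen⟩ := Groth.L22.SchemeDim.exists_dim_eq_trdeg k Z
  obtain rfl : g = m := by exact_mod_cast hg.symm.trans hm
  have h := hopen jr.opensRange ⟨_, (Classical.arbitrary (PrimeSpectrum R) : Spec (CommRingCat.of R)), rfl⟩
  rw [← h, ← PrimeSpectrum.topologicalKrullDim_eq_ringKrullDim]
  exact IsHomeomorph.topologicalKrullDim_eq _ (jr.isOpenEmbedding.isEmbedding.toHomeomorph).isHomeomorph

theorem le_of_coords [IsAlgClosed k] {g n : ℕ} {X : Over (Spec (CommRingCat.of k))} [GrpObj X] [IsProper X.hom]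
    [IsIntegral X.left] (hg : topologicalKrullDim X.left = g) (D : Coords k X.left X.hom n) : 2 * g ≤ n := by
  classical
  obtain ⟨w, hw⟩ := exists_frame hg
  letI : X.left.Over (Spec (CommRingCat.of k)) := ⟨X.hom⟩
  haveI : LocallyOfFiniteType (X.left ↘ Spec (CommRingCat.of k)) := inferInstanceAs (LocallyOfFiniteType X.hom)
  let e : SP k k ⟶ X := 1
  obtain ⟨i, hi⟩ := D.cover (e.left (IsLocalRing.closedPoint k))
  obtain ⟨χ, -⟩ := exists_pt D i e (by
    rintro _ ⟨y, rfl⟩
    rwa [Subsingleton.elim (α := PrimeSpectrum k) y (IsLocalRing.closedPoint k)])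
  let R := D.R i
  haveI : Nontrivial (D.R i) := χ.toRingHom.domain_nontrivial
  haveI : Nonempty (Spec (CommRingCat.of (D.R i))) := inferInstanceAs (Nonempty (PrimeSpectrum (D.R i)))
  haveI : IsIntegral (Spec (CommRingCat.of (D.R i))) := isIntegral_of_isOpenImmersion (D.ι i)
  haveI : IsDomain (D.R i) := (affine_isIntegral_iff (CommRingCat.of (D.R i))).1 inferInstance
  haveI : Algebra.FiniteType k (D.R i) :=
    ⟨⟨Finset.univ.image (D.ξ i), by rw [Finset.coe_image, Finset.coe_univ, Set.image_univ, D.gen]⟩⟩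
  haveI : IsNoetherianRing (D.R i) := Algebra.FiniteType.isNoetherianRing k _
  have hdR : ringKrullDim (D.R i) = (g : WithBot ℕ∞) := ringKrullDim_chart (k := k) hg (D.ι i)
  let B := MvPolynomial (Option (Fin g)) (D.R i)
  haveI : Algebra.FiniteType k B := Algebra.FiniteType.trans (S := D.R i) inferInstance inferInstance
  have hdB : ringKrullDim B = ((g + (g + 1) : ℕ) : WithBot ℕ∞) := by
    rw [MvPolynomial.ringKrullDim_of_isNoetherianRing, hdR]
    simp
  let M := mat (D := D) hw i
  let v : Option (Fin g) → k := fun o => if o = none then 1 else 0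
  let p : Fin (n + 1) → k := fun l => χ (D.ξ i l)
  have hp : p ≠ 0 := fun h => by
    have := congrFun h i
    simp [p, D.ξ_self] at this
  have hev : ∀ c : k, MvPolynomial.eval₂Hom χ.toRingHom v (algebraMap k B c) = c := fun c =>
    (MvPolynomial.eval₂Hom_C χ.toRingHom v (algebraMap k (D.R i) c)).trans (χ.commutes c)
  let ev : B →ₐ[k] k := { MvPolynomial.eval₂Hom χ.toRingHom v with commutes' := hev }
  let Q₀ := RingHom.ker ev
  haveI : Q₀.IsMaximal := RingHom.ker_isMaximal_of_surjective ev fun c => ⟨algebraMap k B c, ev.commutes c⟩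
  let F : Fin (n + 1) → B := fun l =>
    (∑ o, MvPolynomial.C (M l o) * MvPolynomial.X o) - MvPolynomial.C (algebraMap k (D.R i) (p l))
  have hF : Ideal.span (Set.range F) ≤ Q₀ := Ideal.span_le.2 (by
    rintro _ ⟨l, rfl⟩
    show MvPolynomial.eval₂Hom χ.toRingHom v (F l) = 0
    simp only [F, map_sub, map_sum, map_mul, MvPolynomial.eval₂Hom_C, MvPolynomial.eval₂Hom_X', Fintype.sum_option, v]
    simp [p, M, mat])
  obtain ⟨Q, hQ, hQle⟩ := Ideal.exists_minimalPrimes_le hF
  haveI : Q.IsPrime := hQ.1.1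
  have hht : Q.height ≤ ((n + 1 : ℕ) : ℕ∞) := by
    refine (Ideal.height_le_card_of_mem_minimalPrimes_span (Set.finite_range F) hQ).trans ?_
    refine Nat.cast_le.2 ?_
    rw [← Set.image_univ]
    exact (Set.ncard_image_le Set.finite_univ).trans (by simp [Set.ncard_univ])
  by_contra hlt
  have hQmax : ¬ Q.IsMaximal := fun h => by
    have h0 := Groth.L22.AffineDim.height_of_isMaximal k B Q
    rw [hdB] at h0
    have h1 : Q.height = ((g + (g + 1) : ℕ) : ℕ∞) := by exact_mod_cast h0
    rw [h1, Nat.cast_le] at hht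
    omega
  refine hQmax ?_
  -- the point of the fibre gives a family of tangent spaces through one point
  obtain ⟨L, hL⟩ := exists_leftInverse (D := D) hw i
  let q : B →+* B ⧸ Q := Ideal.Quotient.mk Q
  let P : Ideal (D.R i) := Q.comap MvPolynomial.C
  haveI : P.IsPrime := Ideal.IsPrime.comap _
  let a₀ : Option (Fin g) → D.R i := L *ᵥ fun l => algebraMap k (D.R i) (p l)
  have hX : ∀ o, q (MvPolynomial.X o) = q (MvPolynomial.C (a₀ o)) := by
    have hrel : (M.map fun x => q (MvPolynomial.C x)) *ᵥ (fun o => q (MvPolynomial.X o)) =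
        fun l => q (MvPolynomial.C (algebraMap k (D.R i) (p l))) := funext fun l => by
      have h0 : q (F l) = 0 := Ideal.Quotient.eq_zero_iff_mem.2 (hQ.1.2 (Ideal.subset_span ⟨l, rfl⟩))
      simp only [F, map_sub, map_sum, map_mul, sub_eq_zero] at h0
      exact h0
    intro o
    have h2 := congrArg (fun x => (L.map fun x => q (MvPolynomial.C x)) *ᵥ x) hrel
    simp only [Matrix.mulVec_mulVec] at h2
    rw [show (L.map fun x => q (MvPolynomial.C x)) * M.map (fun x => q (MvPolynomial.C x)) = 1 from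
      (Matrix.map_mul (f := q.comp MvPolynomial.C)).symm.trans (by rw [hL]; exact Matrix.map_one _ (map_zero _) (map_one _)),
      Matrix.one_mulVec] at h2
    rw [congrFun h2 o]
    simp [a₀, Matrix.mulVec, dotProduct, map_sum]
  have hP : P.IsMaximal := isMaximal_of_fibre hw i P p hp (fun o => Ideal.Quotient.mk P (a₀ o)) (funext fun l => by
    have hmem : (∑ o, M l o * a₀ o) - algebraMap k (D.R i) (p l) ∈ P := by
      rw [Ideal.mem_comap, ← Ideal.Quotient.eq_zero_iff_mem]
      have h0 : q (F l) = 0 := Ideal.Quotient.eq_zero_iff_mem.2 (hQ.1.2 (Ideal.subset_span ⟨l, rfl⟩))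
      simp only [F, map_sub, map_sum, map_mul, hX] at h0
      simpa [map_sum, q] using h0
    rw [← Ideal.Quotient.eq_zero_iff_mem, map_sub, sub_eq_zero] at hmem
    simpa [Matrix.mulVec, dotProduct, map_sum, M] using hmem)
  let φ : B →+* D.R i ⧸ P := MvPolynomial.eval₂Hom (Ideal.Quotient.mk P) fun o => Ideal.Quotient.mk P (a₀ o)
  have hker : RingHom.ker φ ≤ Q := fun f hf => by
    let ψ : D.R i ⧸ P →+* B ⧸ Q := Ideal.quotientMap Q MvPolynomial.C le_rfl
    have he : ψ.comp φ = q := MvPolynomial.ringHom_ext (fun r => by simp [φ, ψ, q])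
      fun o => by simp [φ, ψ, hX, q]
    rw [← Ideal.Quotient.eq_zero_iff_mem]
    show q f = 0
    rw [← he, RingHom.comp_apply, RingHom.mem_ker.1 hf, map_zero]
  haveI := hP
  letI := Ideal.Quotient.field P
  haveI : (RingHom.ker φ).IsMaximal := RingHom.ker_isMaximal_of_surjective φ fun y => by
    obtain ⟨x, rfl⟩ := Ideal.Quotient.mk_surjective y
    exact ⟨MvPolynomial.C x, MvPolynomial.eval₂Hom_C _ _ _⟩
  exact (Ideal.IsMaximal.eq_of_le ‹(RingHom.ker φ).IsMaximal› hQ.1.1.ne_top hker) ▸ ‹(RingHom.ker φ).IsMaximal›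

open TensorProduct in
/-- the dimension theorem over any field -/
theorem two_mul_dim_le {g n : ℕ} {X : Over (Spec (CommRingCat.of k))} [GrpObj X] [IsProper X.hom]
    [GeometricallyIntegral X.hom] (hg : topologicalKrullDim X.left = g) (f : X.left ⟶ CohB1.ProjSpace n k)
    [IsClosedImmersion f] (hf : f ≫ CohB1.ProjSpace.toSpec n k = X.hom) : 2 * g ≤ n := by
  let K := AlgebraicClosure k
  let θ : Spec (CommRingCat.of K) ⟶ Spec (CommRingCat.of k) := Spec.map (CommRingCat.ofHom (algebraMap k K))
  let XK : Over (Spec (CommRingCat.of K)) := (Over.pullback θ).obj X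
  letI : GrpObj XK := Functor.grpObjObj
  haveI : IsProper XK.hom := inferInstanceAs (IsProper (pullback.snd X.hom θ))
  haveI : GeometricallyIntegral XK.hom := inferInstanceAs (GeometricallyIntegral (pullback.snd X.hom θ))
  haveI : IsIntegral XK.left := GeometricallyIntegral.isIntegral_of_subsingleton XK.hom
  haveI : IsIntegral X.left := GeometricallyIntegral.isIntegral_of_subsingleton X.hom
  -- the closed immersion
  have sq := Groth.L16.ProjSpace.isPullback_map n (algebraMap k K)
  let fK : XK.left ⟶ CohB1.ProjSpace n K :=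
    sq.lift (pullback.fst X.hom θ ≫ f) XK.hom (by rw [Category.assoc, hf]; exact pullback.condition)
  have hfK : fK ≫ CohB1.ProjSpace.toSpec n K = XK.hom := sq.lift_snd _ _ _
  haveI : IsClosedImmersion fK := by
    have hbig : IsPullback (pullback.fst X.hom θ) (fK ≫ CohB1.ProjSpace.toSpec n K) (f ≫ CohB1.ProjSpace.toSpec n k) θ := by
      rw [hfK, hf]
      exact IsPullback.of_hasPullback X.hom θ
    exact MorphismProperty.of_isPullback (P := @IsClosedImmersion)
      (IsPullback.of_bot hbig (sq.lift_fst _ _ _).symm sq) ‹_›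
  obtain ⟨DK⟩ := nonempty_coords (s := XK.hom) fK hfK
  -- the dimension
  letI : X.left.Over (Spec (CommRingCat.of k)) := ⟨X.hom⟩
  haveI : LocallyOfFiniteType (X.left ↘ Spec (CommRingCat.of k)) := inferInstanceAs (LocallyOfFiniteType X.hom)
  letI : XK.left.Over (Spec (CommRingCat.of K)) := ⟨XK.hom⟩
  haveI : LocallyOfFiniteType (XK.left ↘ Spec (CommRingCat.of K)) := inferInstanceAs (LocallyOfFiniteType XK.hom)
  obtain ⟨D⟩ := nonempty_coords (s := X.hom) f hf
  obtain ⟨m, hm⟩ := D.cover (genericPoint X.left)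
  obtain ⟨y, -⟩ := hm
  haveI : Nontrivial (D.R m) := PrimeSpectrum.nontrivial (show PrimeSpectrum (D.R m) from y)
  haveI : Algebra.FiniteType k (D.R m) :=
    ⟨(Subalgebra.fg_def).2 ⟨_, Set.finite_range (D.ξ m), D.gen m⟩⟩
  let j : pullback (Spec.map (CommRingCat.ofHom (algebraMap k (D.R m)))) θ ⟶ XK.left :=
    pullback.map _ _ _ _ (D.ι m) (𝟙 _) (𝟙 _) (by rw [Category.comp_id, D.ι_s]) (by simp)
  haveI : IsOpenImmersion j := inferInstance
  let c : Spec (CommRingCat.of (D.R m ⊗[k] K)) ⟶ XK.left := (pullbackSpecIso k (D.R m) K).inv ≫ j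
  haveI : Nontrivial (D.R m ⊗[k] K) :=
    (Algebra.TensorProduct.includeLeft_injective (S := k) (A := D.R m) (B := K) (algebraMap k K).injective).nontrivial
  obtain ⟨gK, hgK, -, -⟩ := Groth.L22.SchemeDim.exists_dim_eq_trdeg K XK.left
  have h1 : ringKrullDim (D.R m ⊗[k] K) = (gK : WithBot ℕ∞) := ringKrullDim_chart (k := K) hgK c
  rw [Groth.L21.CurvFib.ringKrullDim_tensor_field k K (D.R m), ringKrullDim_chart (k := k) hg (D.ι m)] at h1
  obtain rfl : g = gK := by exact_mod_cast h1
  exact le_of_coords hgK DK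

end Groth.L06.NoEmbed
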