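import Groth.Agent.L16.ProjSpace.Basic

/-!
# The transition between two standard charts on points
-/

set_option autoImplicit false
set_option linter.style.haveILetI false
set_option backward.isDefEq.respectTransparency.types false

universe u

open CategoryTheory CategoryTheory.Limits AlgebraicGeometry MvPolynomial HomogeneousLocalization

noncomputable section

namespace Groth.L06.NoEmbed

open Groth.L16.ProjSpace (AwayX chartAway ratio X_mem ι val_ratio_mul)

variable {n : ℕ} {R : Type u} [CommRing R]

local notation "𝒜" => CohB1.polyGrading n R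

theorem awayMap_ratio (i j l : Fin (n + 1)) :
    awayMap 𝒜 (X_mem n R i) (show (X i * X j : MvPolynomial (Fin (n + 1)) R) = X j * X i from mul_comm _ _)
        (ratio n R j l) =
      awayMap 𝒜 (X_mem n R j) (show (X i * X j : MvPolynomial (Fin (n + 1)) R) = X i * X j from rfl) (ratio n R i l) *
        awayMap 𝒜 (X_mem n R i) (show (X i * X j : MvPolynomial (Fin (n + 1)) R) = X j * X i from mul_comm _ _)
          (ratio n R j i) := by
  refine HomogeneousLocalization.val_injective _ ?_
  rw [HomogeneousLocalization.val_mul, val_awayMap, val_awayMap, val_awayMap]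
  let x : MvPolynomial (Fin (n + 1)) R := X i * X j
  let a : MvPolynomial (Fin (n + 1)) R →+* Localization.Away x := algebraMap _ _
  have hi : IsUnit (a (X i)) := isUnit_of_dvd_unit (map_dvd a ⟨X j, rfl⟩) (IsLocalization.Away.algebraMap_isUnit x)
  have hj : IsUnit (a (X j)) :=
    isUnit_of_dvd_unit (map_dvd a ⟨X i, mul_comm _ _⟩) (IsLocalization.Away.algebraMap_isUnit x)
  have h1 := congrArg (Localization.awayLift a (X i) hi) (val_ratio_mul n R i l)
  have h2 := congrArg (Localization.awayLift a (X j) hj) (val_ratio_mul n R j l)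
  have h3 := congrArg (Localization.awayLift a (X j) hj) (val_ratio_mul n R j i)
  simp only [map_mul, Localization.awayLift, IsLocalization.Away.lift_eq] at h1 h2 h3
  refine hj.mul_right_cancel ?_
  rw [mul_assoc]
  simp only [Localization.awayLift]
  exact h2.trans (h1.symm.trans (congrArg (_ * ·) h3.symm))

/-- Two chart coordinates of one point. -/
theorem ratio_overlap {S : Type u} [CommRing S] {i j : Fin (n + 1)} (α : AwayX n R i →+* S) (β : AwayX n R j →+* S)
    (h : Spec.map (CommRingCat.ofHom α) ≫ chartAway n R i = Spec.map (CommRingCat.ofHom β) ≫ chartAway n R j)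
    (l : Fin (n + 1)) : β (ratio n R j l) = α (ratio n R i l) * β (ratio n R j i) := by
  let x : MvPolynomial (Fin (n + 1)) R := X i * X j
  let w : Spec (CommRingCat.of S) ⟶ Spec (CommRingCat.of (Away 𝒜 x)) :=
    pullback.lift (f := Proj.awayι 𝒜 (X i) (X_mem n R i) one_pos) (g := Proj.awayι 𝒜 (X j) (X_mem n R j) one_pos)
      (Spec.map (CommRingCat.ofHom α)) (Spec.map (CommRingCat.ofHom β)) h ≫
      (Proj.pullbackAwayιIso 𝒜 (X_mem n R i) one_pos (X_mem n R j) one_pos (x := x) rfl).hom
  obtain ⟨γ, hγ⟩ := Spec.map_surjective w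
  have hα : CommRingCat.ofHom (awayMap 𝒜 (X_mem n R j) (x := x) rfl) ≫ γ = CommRingCat.ofHom α := by
    apply Spec.map_injective
    rw [Spec.map_comp, hγ]
    simp only [w, Category.assoc, Proj.pullbackAwayιIso_hom_SpecMap_awayMap_left, pullback.lift_fst]
  have hβ : CommRingCat.ofHom (awayMap 𝒜 (X_mem n R i) (x := x) (mul_comm _ _)) ≫ γ = CommRingCat.ofHom β := by
    apply Spec.map_injective
    rw [Spec.map_comp, hγ]
    simp only [w, Category.assoc, Proj.pullbackAwayιIso_hom_SpecMap_awayMap_right, pullback.lift_snd]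
  have e1 : ∀ z, γ.hom (awayMap 𝒜 (X_mem n R j) (x := x) rfl z) = α z := fun z =>
    RingHom.congr_fun (congrArg CommRingCat.Hom.hom hα) z
  have e2 : ∀ z, γ.hom (awayMap 𝒜 (X_mem n R i) (x := x) (mul_comm _ _) z) = β z := fun z =>
    RingHom.congr_fun (congrArg CommRingCat.Hom.hom hβ) z
  rw [← e2, ← e2, ← e1, awayMap_ratio, map_mul]

end Groth.L06.NoEmbed
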