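import Groth.Agent.L06.NoEmbed.Coords
import Groth.Agent.L08.TorusQuot.Affine
import Mathlib.Algebra.TrivSqZeroExt.Basic
import Mathlib.LinearAlgebra.Matrix.ToLin
import Mathlib.RingTheory.Jacobson.Ring

/-!
# Translating tangent vectors over the coordinate charts of a group
-/

set_option autoImplicit false
set_option linter.style.haveILetI false
set_option linter.unusedSectionVars false
set_option backward.isDefEq.respectTransparency.types false

universe u

open CategoryTheory CategoryTheory.Limits MonoidalCategory CartesianMonoidalCategory MonObj AlgebraicGeometry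
open Groth.L08.TorusQuot (SP spA)

noncomputable section

namespace Groth.L06.NoEmbed

variable (g : ℕ) (k : Type u) [Field k]

/-- First order neighbourhood with values in an algebra. -/
abbrev EN (S : Type u) [CommRing S] : Type u := TrivSqZeroExt S (Fin g → S)

variable {k} {S T U : Type u} [CommRing S] [Algebra k S] [CommRing T] [Algebra k T] [CommRing U] [Algebra k U]

/-- Functoriality of the first order neighbourhood. -/
def tmap (φ : S →ₐ[k] T) : EN g S →ₐ[k] EN g T where
  toFun x := TrivSqZeroExt.inl (φ x.fst) + TrivSqZeroExt.inr fun i => φ (x.snd i)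
  map_one' := by
    refine TrivSqZeroExt.ext (by simp) (funext fun i => by simp)
  map_zero' := by
    refine TrivSqZeroExt.ext (by simp) (funext fun i => by simp)
  map_mul' x y := by
    refine TrivSqZeroExt.ext (by simp) (funext fun i => ?_)
    simp [TrivSqZeroExt.snd_mul]
  map_add' x y := by
    refine TrivSqZeroExt.ext (by simp) (funext fun i => ?_)
    simp
  commutes' c := by
    refine TrivSqZeroExt.ext (by simp [TrivSqZeroExt.algebraMap_eq_inl']) (funext fun i => ?_)
    simp [TrivSqZeroExt.algebraMap_eq_inl']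

@[simp] theorem fst_tmap (φ : S →ₐ[k] T) (x : EN g S) : (tmap g φ x).fst = φ x.fst := by simp [tmap]

@[simp] theorem snd_tmap (φ : S →ₐ[k] T) (x : EN g S) (i : Fin g) : (tmap g φ x).snd i = φ (x.snd i) := by simp [tmap]

theorem tmap_tmap (φ : S →ₐ[k] T) (ψ : T →ₐ[k] U) : (tmap g ψ).comp (tmap g φ) = tmap g (ψ.comp φ) :=
  AlgHom.ext fun x => TrivSqZeroExt.ext (by simp) (funext fun i => by simp)

variable (k S) in
/-- projection to the ring -/
abbrev π : EN g S →ₐ[k] S := TrivSqZeroExt.fstHom k S (Fin g → S)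

variable (k S) in
/-- constants -/
abbrev inlA : S →ₐ[k] EN g S := TrivSqZeroExt.inlAlgHom k S (Fin g → S)

variable {g}

theorem tmap_inlA (φ : S →ₐ[k] T) : (tmap g φ).comp (inlA g k S) = (inlA g k T).comp φ :=
  AlgHom.ext fun x => TrivSqZeroExt.ext (by simp) (funext fun i => by simp)

theorem π_tmap (φ : S →ₐ[k] T) : (π g k T).comp (tmap g φ) = φ.comp (π g k S) :=
  AlgHom.ext fun x => by simp

theorem surjective_specπ : Function.Surjective (Spec.map (CommRingCat.ofHom (π g k S).toRingHom)) := by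
  intro p
  refine ⟨(PrimeSpectrum.comap (inlA g k S).toRingHom p), PrimeSpectrum.ext (Ideal.ext fun x => ?_)⟩
  show TrivSqZeroExt.inl x.fst ∈ p.asIdeal ↔ x ∈ p.asIdeal
  have hnil : IsNilpotent (TrivSqZeroExt.inr x.snd : EN g S) := ⟨2, by rw [pow_two, TrivSqZeroExt.inr_mul_inr]⟩
  have hm : (TrivSqZeroExt.inr x.snd : EN g S) ∈ p.asIdeal := nilradical_le_prime p.asIdeal hnil
  conv_rhs => rw [← TrivSqZeroExt.inl_fst_add_inr_snd_eq x]
  exact ⟨fun h => p.asIdeal.add_mem h hm, fun h => (Ideal.add_mem_iff_left _ hm).1 h⟩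

section Points

variable {n : ℕ} {X : Over (Spec (CommRingCat.of k))} (D : Coords k X.left X.hom n)

/-- A point in a chart. -/
def pt (m : Fin (n + 1)) (φ : D.R m →ₐ[k] S) : SP k S ⟶ X :=
  Over.homMk (Spec.map (CommRingCat.ofHom φ.toRingHom) ≫ D.ι m) (by
    rw [Category.assoc, D.ι_s]
    exact (Spec.map_comp _ _).symm.trans (congrArg Spec.map (CommRingCat.hom_ext (RingHom.ext φ.commutes))))

theorem pt_comp (m : Fin (n + 1)) (φ : D.R m →ₐ[k] S) (ψ : S →ₐ[k] T) :
    spA ψ ≫ pt D m φ = pt D m (ψ.comp φ) := by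
  refine Over.OverMorphism.ext ?_
  show Spec.map (CommRingCat.ofHom ψ.toRingHom) ≫ Spec.map (CommRingCat.ofHom φ.toRingHom) ≫ D.ι m =
    Spec.map (CommRingCat.ofHom (ψ.comp φ).toRingHom) ≫ D.ι m
  rw [← Category.assoc, ← Spec.map_comp]
  rfl

theorem pt_injective (m : Fin (n + 1)) {φ ψ : D.R m →ₐ[k] S} (h : pt D m φ = pt D m ψ) : φ = ψ := by
  have h1 : Spec.map (CommRingCat.ofHom φ.toRingHom) ≫ D.ι m = Spec.map (CommRingCat.ofHom ψ.toRingHom) ≫ D.ι m :=
    congrArg Over.Hom.left h
  exact AlgHom.ext fun x => RingHom.congr_fun (congrArg CommRingCat.Hom.hom (Spec.map_injective ((cancel_mono _).1 h1))) x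

theorem exists_pt (m : Fin (n + 1)) (z : SP k S ⟶ X) (hz : Set.range z.left ⊆ Set.range (D.ι m)) :
    ∃ φ, pt D m φ = z := by
  obtain ⟨θ, hθ⟩ := Spec.map_surjective (IsOpenImmersion.lift (D.ι m) z.left hz)
  have hfac : Spec.map θ ≫ D.ι m = z.left := by rw [hθ, IsOpenImmersion.lift_fac]
  have hc : CommRingCat.ofHom (algebraMap k (D.R m)) ≫ θ = CommRingCat.ofHom (algebraMap k S) := by
    apply Spec.map_injective
    rw [Spec.map_comp, ← D.ι_s, ← Category.assoc, hfac]
    exact Over.w z
  exact ⟨{ θ.hom with commutes' := fun c => congr($hc c) }, Over.OverMorphism.ext hfac⟩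

variable [GrpObj X] (w : SP k (EN g k) ⟶ X)

/-- Translate a point by the infinitesimal point. -/
def shift (x : SP k S ⟶ X) : SP k (EN g S) ⟶ X :=
  (spA (inlA g k S) ≫ x) * (spA (tmap g (Algebra.ofId k S)) ≫ w)

theorem spA_comp {A B C : Type u} [CommRing A] [Algebra k A] [CommRing B] [Algebra k B] [CommRing C] [Algebra k C]
    (φ : A →ₐ[k] B) (ψ : B →ₐ[k] C) : spA ψ ≫ spA φ = spA (ψ.comp φ) := by
  refine Over.OverMorphism.ext ?_
  exact (Spec.map_comp (CommRingCat.ofHom φ.toRingHom) (CommRingCat.ofHom ψ.toRingHom)).symm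

theorem shift_natural (φ : S →ₐ[k] T) (x : SP k S ⟶ X) : spA (tmap g φ) ≫ shift w x = shift w (spA φ ≫ x) := by
  rw [shift, shift, MonObj.comp_mul]
  simp only [← Category.assoc, spA_comp, tmap_inlA, tmap_tmap]
  congr 3
  exact congrArg (tmap g) (Subsingleton.elim _ _)

theorem π_shift (hw1 : spA (π g k k) ≫ w = 1) (x : SP k S ⟶ X) : spA (π g k S) ≫ shift w x = x := by
  rw [shift, MonObj.comp_mul]
  simp only [← Category.assoc, spA_comp, π_tmap]
  rw [← spA_comp (k := k) (π g k k) (Algebra.ofId k S), Category.assoc, hw1, MonObj.comp_one, _root_.mul_one,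
    show (π g k S).comp (inlA g k S) = AlgHom.id k S from AlgHom.ext fun s => rfl]
  conv_rhs => rw [← Category.id_comp x]
  congr 1
  exact Over.OverMorphism.ext (Spec.map_id _)

/-- The translated point of a chart. -/
theorem exists_tau (hw1 : spA (π g k k) ≫ w = 1) (m : Fin (n + 1)) :
    ∃ τ : D.R m →ₐ[k] EN g (D.R m), (π g k (D.R m)).comp τ = AlgHom.id k _ ∧
      ∀ (S : Type u) [CommRing S] [Algebra k S] (φ : D.R m →ₐ[k] S),
        pt D m ((tmap g φ).comp τ) = shift w (pt D m φ) := by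
  let z := shift w (pt D m (AlgHom.id k (D.R m)))
  obtain ⟨τ, hτ⟩ := exists_pt D m z (by
    rintro _ ⟨p, rfl⟩
    obtain ⟨q, rfl⟩ := surjective_specπ (k := k) (g := g) p
    have h := congrArg (fun f => f.left q) (π_shift w hw1 (pt D m (AlgHom.id k (D.R m))))
    exact ⟨_, h.symm⟩)
  refine ⟨τ, pt_injective D m ?_, fun S _ _ φ => ?_⟩
  · rw [← pt_comp, hτ]
    exact π_shift w hw1 _
  · rw [← pt_comp, hτ, shift_natural, pt_comp]
    rfl

end Points

end Groth.L06.NoEmbed
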